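import Cfsg.Agent.QW.A
import Cfsg.Agent.H12.Lin

/-! Two cases for the centralizer of `A × 1` and the element of order 3. -/

set_option autoImplicit false

namespace Cfsg.Agent.QW

open Subgroup

variable {G : Type*} [Group G] [Finite G] {j : D × D →* G} {s r : G} {P : Sylow 2 G}

namespace K2

theorem rk {N : Type*} [Group N] [Finite N] (hr : Cfsg.PRankLE 3 2 N) (x y t : N) (xy : x * y = y * x)
    (xt : x * t = t * x) (yt : y * t = t * y) (x3 : x ^ 3 = 1) (y3 : y ^ 3 = 1) (t3 : t ^ 3 = 1)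
    (inj : ∀ p q : Fin 3 × Fin 3, x ^ p.1.1 * y ^ p.2.1 = x ^ q.1.1 * y ^ q.2.1 → p = q)
    (nt : ∀ m n : ℕ, t ≠ x ^ m * y ^ n) : False := by
  have hc : ∀ u ∈ ({x, y, t} : Set N), ∀ v ∈ ({x, y, t} : Set N), u * v = v * u := by
    rintro u (rfl | rfl | rfl) v (rfl | rfl | rfl) <;>
      first | rfl | assumption | exact xy.symm | exact xt.symm | exact yt.symm
  have cm := isMulCommutative_closure hc
  have ex : ∀ g ∈ closure ({x, y, t} : Set N), g ^ 3 = 1 := fun g hg => by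
    induction hg using closure_induction with
    | mem u hu => rcases hu with rfl | rfl | rfl <;> assumption
    | one => exact one_pow _
    | mul u v hu hv iu iv =>
      have : Commute u v := congrArg Subtype.val (cm.is_comm.comm (⟨u, hu⟩ : closure ({x, y, t} : Set N)) ⟨v, hv⟩)
      rw [this.mul_pow, iu, iv, one_mul]
    | inv u _ iu => rw [inv_pow, iu, inv_one]
  have hle := hr _ cm ex
  have mx : x ∈ closure ({x, y, t} : Set N) := subset_closure (by simp)
  have my : y ∈ closure ({x, y, t} : Set N) := subset_closure (by simp)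
  have mt : t ∈ closure ({x, y, t} : Set N) := subset_closure (by simp)
  have := Nat.card_le_card_of_injective (fun o : Option (Fin 3 × Fin 3) =>
    (o.elim ⟨t, mt⟩ fun p => ⟨x ^ p.1.1 * y ^ p.2.1, mul_mem (pow_mem mx _) (pow_mem my _)⟩ :
      closure ({x, y, t} : Set N))) (by
    rintro (_ | p) (_ | q) e <;> have e' := congrArg Subtype.val e
    · rfl
    · exact absurd e' (nt _ _)
    · exact absurd e'.symm (nt _ _)
    · exact congrArg _ (inj _ _ e'))
  rw [Nat.card_eq_fintype_card (α := Option _)] at this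
  simp only [Fintype.card_option, Fintype.card_prod, Fintype.card_fin] at this
  omega

/-- the four-group `A × 1` -/
def V (j : D × D →* G) : Subgroup G where
  carrier := {g | ∃ x, InA x ∧ g = j (x, 1)}
  one_mem' := ⟨1, Or.inl rfl, (map_one j).symm⟩
  mul_mem' := by
    rintro _ _ ⟨x, hx, rfl⟩ ⟨y, hy, rfl⟩
    exact ⟨x * y, (by decide : ∀ x y : D, InA x → InA y → InA (x * y)) x y hx hy, by
      rw [← map_mul]; rfl⟩
  inv_mem' := by
    rintro _ ⟨x, hx, rfl⟩
    exact ⟨x⁻¹, (by decide : ∀ x : D, InA x → InA x⁻¹) x hx, by rw [← map_inv]; rfl⟩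

theorem nV {g : G} (h1 : g * j (z, 1) * g⁻¹ ∈ V j) (h2 : g * j (a, 1) * g⁻¹ ∈ V j) :
    g ∈ normalizer (V j : Set G) := by
  refine mem_normalizer_fintype ?_
  rintro _ ⟨x, rfl | rfl | rfl | rfl, rfl⟩
  · rw [show j (1, 1) = 1 from map_one j, mul_one, mul_inv_cancel]; exact one_mem (V j)
  · exact h1
  · exact h2
  · rw [show j (a * z, 1) = j (a, 1) * j (z, 1) by rw [← map_mul]; rfl, ← conj_mul]
    exact mul_mem h2 h1

def c1 : alternatingGroup (Fin 6) := ⟨Equiv.swap 0 1 * Equiv.swap 1 2,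
  Equiv.Perm.mem_alternatingGroup.2 (by decide +kernel)⟩
def c2 : alternatingGroup (Fin 6) := ⟨Equiv.swap 3 4 * Equiv.swap 4 5,
  Equiv.Perm.mem_alternatingGroup.2 (by decide +kernel)⟩

theorem cov {K : Subgroup G} (t : G) {ι : Type} [Finite ι] (k : ι → K)
    (inj : ∀ i i', (k i).1 * t * (k i).1⁻¹ = (k i').1 * t * (k i').1⁻¹ → i = i')
    (hc : ((centralizer {t}).subgroupOf K).index ≤ Nat.card ι) (g : K) :
    ∃ i, g.1 * t * g.1⁻¹ = (k i).1 * t * (k i).1⁻¹ := by
  have key : ∀ u v : K, (QuotientGroup.mk u : K ⧸ (centralizer {t}).subgroupOf K) = QuotientGroup.mk v →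
      u.1 * t * u.1⁻¹ = v.1 * t * v.1⁻¹ := fun u v e => by
    have := mem_centralizer_singleton_iff.1 (mem_subgroupOf.1 (QuotientGroup.eq.1 e))
    simp only [coe_mul, coe_inv] at this
    calc u.1 * t * u.1⁻¹ = u.1 * (t * (u.1⁻¹ * v.1)) * v.1⁻¹ := by group
      _ = _ := by rw [← this]; group
  obtain ⟨i, hi⟩ := (Function.Injective.bijective_of_nat_card_le (f := fun i =>
    (QuotientGroup.mk (k i) : K ⧸ (centralizer {t}).subgroupOf K))
    (fun i i' e => inj _ _ (key _ _ e)) hc).2 (QuotientGroup.mk g)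
  exact ⟨i, (key _ _ hi).symm⟩

theorem card3 : Nat.card (Matrix.SpecialLinearGroup (Fin 3) (ZMod 2)) = 168 := by
  have := H12.card_SL_fin (ZMod.card 2) 3 (by norm_num)
  rw [show ∏ i : Fin 3, (2 ^ 3 - 2 ^ (i : ℕ)) = 168 by decide +kernel, show 2 - 1 = 1 from rfl,
    one_mul] at this
  exact this

end K2

open K2

theorem kA6 (hq : Cfsg.IsQuasithin G) (h : Cx j s r P) (K : Subgroup G)
    (hK : ∀ g, g ∈ K ↔ g * j (z, 1) = j (z, 1) * g ∧ g * j (a, 1) = j (a, 1) * g ∧ g * r = r * g)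
    (e : Nonempty (K ≃* alternatingGroup (Fin 6))) : False := by
  obtain ⟨e⟩ := e
  have mz : j (z, 1) ∈ V j := ⟨z, by decide, rfl⟩
  have ma : j (a, 1) ∈ V j := ⟨a, by decide, rfl⟩
  have hr := hq 3 Nat.prime_three (by norm_num) (normalizer (V j : Set G)) ⟨V j, by
    rintro ⟨_, x, hx, rfl⟩
    refine ⟨1, Subtype.ext ?_⟩
    show j (x, 1) ^ 2 ^ 1 = 1
    rw [← map_pow, (by decide : ∀ x : D, InA x → ((x, 1) : D × D) ^ 2 ^ 1 = 1) x hx, map_one], by
    intro hb
    rw [hb, mem_bot, ← map_one j] at mz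
    exact absurd (h.inj mz) (by decide), rfl⟩
  have kn : ∀ g : K, g.1 ∈ normalizer (V j : Set G) := fun g => by
    obtain ⟨p, q, -⟩ := (hK _).1 g.2
    exact nV (by rwa [p, mul_inv_cancel_right]) (by rwa [q, mul_inv_cancel_right])
  have rn : r ∈ normalizer (V j : Set G) :=
    nV (by rwa [h.rz]) (by rw [h.ra]; exact ⟨_, by decide, rfl⟩)
  refine rk hr ⟨_, kn (e.symm c1)⟩ ⟨_, kn (e.symm c2)⟩ ⟨r, rn⟩ (Subtype.ext ?_)
    (Subtype.ext ((hK _).1 (e.symm c1).2).2.2) (Subtype.ext ((hK _).1 (e.symm c2).2).2.2)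
    (Subtype.ext ?_) (Subtype.ext ?_) (Subtype.ext ?_) (fun p q w => ?_) fun m n w => ?_
  · show ((e.symm c1 * e.symm c2 : K) : G) = (e.symm c2 * e.symm c1 : K)
    rw [← map_mul, ← map_mul, show c1 * c2 = c2 * c1 by decide +kernel]
  · show ((e.symm c1 ^ 3 : K) : G) = 1
    rw [← map_pow, show c1 ^ 3 = 1 by decide +kernel, map_one]; rfl
  · show ((e.symm c2 ^ 3 : K) : G) = 1
    rw [← map_pow, show c2 ^ 3 = 1 by decide +kernel, map_one]; rfl
  · show r ^ 3 = 1
    rw [← h.r3, pow_orderOf_eq_one]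
  · have w' : (e.symm c1 ^ p.1.1 * e.symm c2 ^ p.2.1 : K) = e.symm c1 ^ q.1.1 * e.symm c2 ^ q.2.1 :=
      Subtype.ext (by simpa using congrArg Subtype.val w)
    simp only [← map_pow, ← map_mul] at w'
    exact (by decide +kernel : ∀ p q : Fin 3 × Fin 3,
      c1 ^ p.1.1 * c2 ^ p.2.1 = c1 ^ q.1.1 * c2 ^ q.2.1 → p = q) p q (e.symm.injective w')
  · have w' : r = (e.symm c1).1 ^ m * (e.symm c2).1 ^ n := by simpa using congrArg Subtype.val w
    have rK : r ∈ K := w' ▸ mul_mem (pow_mem (e.symm c1).2 _) (pow_mem (e.symm c2).2 _)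
    have := ((hK _).1 rK).1
    have q := h.rz
    rw [this, mul_inv_cancel_right] at q
    exact absurd (h.inj q) (by decide)

theorem k168' (h : Cx j s r P) (K : Subgroup G)
    (hK : ∀ g, g ∈ K ↔ g * j (z, 1) = j (z, 1) * g ∧ g * j (a, 1) = j (a, 1) * g ∧ g * r = r * g)
    {ρ : G} (ρK : ρ ∈ K) (e3 : ρ * j (b, 1) * ρ⁻¹ = j (b, b * z)) (cK : Nat.card K = 168) : False := by
  obtain ⟨t, ht⟩ : ∃ t, t = s * r * s⁻¹ := ⟨_, rfl⟩
  have tr : ∀ x y u v, r * j (x, y) * r⁻¹ = j (u, v) → t * j (y, x) * t⁻¹ = j (v, u) :=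
    fun x y u v e => by rw [← h.sw x y, ← h.sw u v, ← e, ht]; group
  have tc : ∀ x, t * j (x, 1) = j (x, 1) * t := fun x =>
    mul_inv_eq_iff_eq_mul.1 (tr 1 x 1 x (by rw [h.rc, mul_inv_cancel_right]))
  have tz := tr _ _ _ _ h.rz
  have ta := tr _ _ _ _ h.ra
  have tb : j (1, b) * t * (j (1, b))⁻¹ = t⁻¹ := by
    rw [← h.sw b 1, ht]
    calc _ = s * (j (b, 1) * r * (j (b, 1))⁻¹) * s⁻¹ := by group
      _ = _ := by rw [h.rb]; group
  have t3 : orderOf t = 3 := by
    rw [← h.r3, ht]; exact (MulAut.conj s).orderOf_eq r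
  have jm : ∀ x y u v : D, j (x, y) * j (u, v) = j (x * u, y * v) := fun x y u v => by
    rw [← map_mul]; rfl
  have tK : t ∈ K := (hK _).2 ⟨tc _, tc _, by rw [ht]; exact h.rr.symm⟩
  have jc : ∀ x y : D, j (1, y) * j (x, 1) = j (x, 1) * j (1, y) := fun x y => by
    simp only [jm, one_mul, mul_one]
  have jK : ∀ y, j (1, y) ∈ K := fun y => (hK _).2 ⟨jc _ _, jc _ _, (h.rc y).symm⟩
  -- the centralizer of `j (b, 1)` has index at most seven
  have hi : ((centralizer {j (b, 1)}).subgroupOf K).index ≤ 7 := by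
    have d8 : 8 ∣ Nat.card ((centralizer {j (b, 1)}).subgroupOf K) := by
      have := card_dvd_of_injective (((j.comp (MonoidHom.inr D D)).codRestrict K jK).codRestrict
        ((centralizer {j (b, 1)}).subgroupOf K) fun y =>
          mem_subgroupOf.2 (mem_centralizer_singleton_iff.2 (jc b y))) fun y y' e =>
        (Prod.mk.inj (h.inj (congrArg (fun u => u.1.1) e))).2
      rwa [DihedralGroup.nat_card] at this
    have d3 : 3 ∣ Nat.card ((centralizer {j (b, 1)}).subgroupOf K) := by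
      have := orderOf_dvd_natCard (⟨⟨t, tK⟩, mem_subgroupOf.2 (mem_centralizer_singleton_iff.2 (tc b))⟩ :
        (centralizer {j (b, 1)}).subgroupOf K)
      rwa [← orderOf_coe, ← orderOf_coe, t3] at this
    have d24 := Nat.le_of_dvd Nat.card_pos (Nat.Coprime.mul_dvd_of_dvd_of_dvd (by norm_num) d8 d3)
    have := ((centralizer {j (b, 1)}).subgroupOf K).index_mul_card
    rw [cK] at this
    nlinarith
  have hV : ∀ (i : ℕ) x, InA x → ∃ x', InA x' ∧ t ^ i * j (1, x) * (t ^ i)⁻¹ = j (1, x') := by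
    intro i
    induction i with
    | zero => exact fun x hx => ⟨x, hx, by simp⟩
    | succ i ih =>
      intro x hx
      obtain ⟨y, hy, e⟩ : ∃ y, InA y ∧ t * j (1, x) * t⁻¹ = j (1, y) := by
        rcases hx with rfl | rfl | rfl | rfl
        · exact ⟨1, by decide, by rw [show j (1, 1) = 1 from map_one j]; group⟩
        · exact ⟨_, by decide, tz⟩
        · exact ⟨_, by decide, ta⟩
        · exact ⟨a * z * a, by decide, by
            rw [show j (1, a * z) = j (1, a) * j (1, z) by rw [jm, one_mul], ← conj_mul, ta, tz, jm,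
              one_mul]⟩
      obtain ⟨y', hy', e'⟩ := ih y hy
      exact ⟨y', hy', by rw [← e', ← e, pow_succ]; group⟩
  have hb : ∀ i : ℕ, t ^ i * j (1, b) * (t ^ i)⁻¹ = t ^ (2 * i) * j (1, b) := fun i => by
    have : j (1, b) * (t ^ i)⁻¹ * (j (1, b))⁻¹ = t ^ i := by
      have w : j (1, b) * t⁻¹ * (j (1, b))⁻¹ = t := by
        have := congrArg Inv.inv tb
        rwa [conj_inv, inv_inv] at this
      rw [← inv_pow, ← conj_pow, w]
    calc _ = t ^ i * (j (1, b) * (t ^ i)⁻¹ * (j (1, b))⁻¹) * j (1, b) := by group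
      _ = _ := by rw [this, two_mul, pow_add]
  have hc : ∀ (i : ℕ) (x : D), InA x → ∃ d, t ^ i * j (1, b * x) * (t ^ i)⁻¹ = t ^ (2 * i) * j (1, d) :=
    fun i x hx => by
      obtain ⟨y, -, e⟩ := hV i x hx
      exact ⟨b * y, by
        rw [show j (1, b * x) = j (1, b) * j (1, x) by rw [jm, one_mul], ← conj_mul, hb, e, mul_assoc,
          jm, one_mul]⟩
  let c : Bool → D := fun ε => if ε then 1 else z
  let d : Bool → D := fun ε => if ε then a else 1
  have cA : ∀ ε, InA (c ε) := by decide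
  have hk : ∀ (i : ℕ) ε, (t ^ i * j (1, d ε) * ρ) * j (b, 1) * (t ^ i * j (1, d ε) * ρ)⁻¹ =
      j (b, 1) * (t ^ i * j (1, b * c ε) * (t ^ i)⁻¹) := fun i ε => by
    have : j (1, d ε) * j (b, b * z) * (j (1, d ε))⁻¹ = j (b, 1) * j (1, b * c ε) := by
      rw [← map_inv, ← map_mul, ← map_mul, ← map_mul]
      congr 1; revert ε; decide
    calc _ = t ^ i * (j (1, d ε) * (ρ * j (b, 1) * ρ⁻¹) * (j (1, d ε))⁻¹) * (t ^ i)⁻¹ := by group
      _ = (t ^ i * j (b, 1)) * j (1, b * c ε) * (t ^ i)⁻¹ := by rw [e3, this]; group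
      _ = _ := by rw [(Commute.pow_left (tc b) i).eq]; group
  have ne1 : ∀ (i : ℕ) ε, t ^ i * j (1, b * c ε) * (t ^ i)⁻¹ ≠ 1 := fun i ε e => by
    rw [conj_eq_one_iff, ← map_one j] at e
    exact absurd (h.inj e) ((by decide : ∀ ε, ((1, b * c ε) : D × D) ≠ 1) ε)
  have cv := cov (K := K) (j (b, 1)) (fun o : Option (Fin 3 × Bool) => o.elim 1 fun p =>
    ⟨t ^ p.1.1 * j (1, d p.2) * ρ, mul_mem (mul_mem (pow_mem tK _) (jK _)) ρK⟩) (by
      rintro (_ | ⟨i, ε⟩) (_ | ⟨i', ε'⟩) e <;>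
        simp only [Option.elim, hk, OneMemClass.coe_one, one_mul, inv_one, mul_one] at e
      · rfl
      · exact absurd (left_eq_mul.1 e) (ne1 _ _)
      · exact absurd (left_eq_mul.1 e.symm) (ne1 _ _)
      · have e' := mul_left_cancel e
        obtain ⟨u, hu⟩ := hc i _ (cA ε)
        obtain ⟨u', hu'⟩ := hc i' _ (cA ε')
        have e2 : t ^ ((2 * i.1 : ℕ) - (2 * i'.1 : ℕ) : ℤ) = j (1, u' * u⁻¹) := by
          rw [hu, hu'] at e'
          rw [show j (1, u' * u⁻¹) = j (1, u') * (j (1, u))⁻¹ by rw [← map_inv, ← map_mul]; simp,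
            sub_eq_neg_add, zpow_add, zpow_neg, zpow_natCast, zpow_natCast,
            inv_mul_eq_iff_eq_mul, ← mul_assoc, ← e', mul_inv_cancel_right]
        have e4 : t ^ (((2 * i.1 : ℕ) - (2 * i'.1 : ℕ) : ℤ) * 4) = 1 := by
          rw [zpow_mul, e2, ← map_zpow, (by decide : ∀ y : D, ((1, y) : D × D) ^ (4 : ℤ) = 1), map_one]
        rw [← orderOf_dvd_iff_zpow_eq_one, t3] at e4
        obtain rfl : i = i' := Fin.ext (by have := i.2; have := i'.2; omega)
        have := h.inj (mul_left_cancel (mul_right_cancel e'))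
        have : ε = ε' := (by decide : ∀ ε ε', ((1, b * c ε) : D × D) = (1, b * c ε') → ε = ε') _ _ this
        rw [this])
    (by rw [Nat.card_eq_fintype_card]; exact hi)
  have cm : ∀ g ∈ K, Commute (j (b, 1)) (g * j (b, 1) * g⁻¹) := fun g hg => by
    obtain ⟨_ | ⟨i, ε⟩, e⟩ := cv ⟨g, hg⟩ <;>
      simp only [Option.elim, hk, OneMemClass.coe_one, one_mul, inv_one, mul_one] at e <;> rw [e]
    have q : Commute (j (b, 1)) (t ^ i.1) := (Commute.pow_left (tc b) _).symm
    exact (Commute.refl _).mul_right ((q.mul_right (jc _ _).symm).mul_right q.inv_right)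
  have m : ∀ i : ℕ, t ^ i * j (1, d true) * ρ ∈ K := fun i =>
    mul_mem (mul_mem (pow_mem tK _) (jK _)) ρK
  have q := (cm _ (mul_mem (inv_mem (m 0)) (m 1))).conj (t ^ 0 * j (1, d true) * ρ)
  rw [show ∀ x y w : G, x * (x⁻¹ * y * w * (x⁻¹ * y)⁻¹) * x⁻¹ = y * w * y⁻¹ from
    fun x y w => by group, hk, hk, show b * c true = b from mul_one b, hb, hb] at q
  simp only [mul_zero, pow_zero, one_mul, mul_one] at q
  have q1 : Commute (j (b, 1) * j (1, b)) (j (b, 1)) := (Commute.refl _).mul_left (jc _ _)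
  have q2 : Commute (j (b, 1) * j (1, b)) (j (1, b)) :=
    Commute.mul_left (jc _ _).symm (Commute.refl _)
  have q3 : Commute (j (b, 1) * j (1, b)) (t ^ 2) := by
    have := (q1.inv_right.mul_right q).mul_right q2.inv_right
    rwa [inv_mul_cancel_left, mul_inv_cancel_right] at this
  have q4 : Commute (j (1, b)) (t ^ 2) := by
    have := (Commute.pow_left (tc b) 2).symm.inv_left.mul_left q3
    rwa [inv_mul_cancel_left] at this
  have q5 : t⁻¹ ^ 2 = t ^ 2 := by rw [← tb, conj_pow, q4.eq, mul_inv_cancel_right]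
  have q6 : t ^ 4 = 1 := by
    rw [show t ^ 4 = t ^ 2 * t ^ 2 by group]; nth_rewrite 1 [← q5]; group
  rw [← orderOf_dvd_iff_pow_eq_one, t3] at q6
  omega

theorem k168 (h : Cx j s r P) (K : Subgroup G)
    (hK : ∀ g, g ∈ K ↔ g * j (z, 1) = j (z, 1) * g ∧ g * j (a, 1) = j (a, 1) * g ∧ g * r = r * g)
    {ρ : G} (ρK : ρ ∈ K) (_e1 : ρ * j (1, z) * ρ⁻¹ = j (1, b))
    (_e2 : ρ * j (1, b) * ρ⁻¹ = j (1, b * z)) (e3 : ρ * j (b, 1) * ρ⁻¹ = j (b, b * z))
    (e : Nonempty (K ≃* Matrix.SpecialLinearGroup (Fin 3) (ZMod 2))) : False :=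
  k168' h K hK ρK e3 (by obtain ⟨e⟩ := e; rw [Nat.card_congr e.toEquiv, card3])

end Cfsg.Agent.QW
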