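import Cfsg.Agent.QW.A
import Cfsg.Agent.H11.Syl

/-! Weak closure of `B × B` in `D₈ × D₈`. -/

set_option autoImplicit false
set_option synthInstance.maxSize 4000
set_option synthInstance.maxHeartbeats 200000
set_option maxRecDepth 100000

namespace Cfsg.Agent.QW

open Subgroup Cfsg.Agent.H11

namespace NB

/-- the subgroup `A` -/
def VA : Subgroup D where
  carrier := {x | InA x}
  mul_mem' := fun {x y} => (by decide : ∀ x y : D, InA x → InA y → InA (x * y)) x y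
  one_mem' := Or.inl rfl
  inv_mem' := fun {x} => (by decide : ∀ x : D, InA x → InA x⁻¹) x

/-- the subgroup `B` -/
def VB : Subgroup D where
  carrier := {x | InB x}
  mul_mem' := fun {x y} => (by decide : ∀ x y : D, InB x → InB y → InB (x * y)) x y
  one_mem' := Or.inl rfl
  inv_mem' := fun {x} => (by decide : ∀ x : D, InB x → InB x⁻¹) x

instance : VA.Normal := ⟨(by decide : ∀ x : D, InA x → ∀ g : D, InA (g * x * g⁻¹))⟩
instance : VB.Normal := ⟨(by decide : ∀ x : D, InB x → ∀ g : D, InB (g * x * g⁻¹))⟩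

theorem cA : Nat.card VA = 4 := by
  change Nat.card {x : D // InA x} = 4
  rw [Nat.card_eq_fintype_card]; decide
theorem cB : Nat.card VB = 4 := by
  change Nat.card {x : D // InB x} = 4
  rw [Nat.card_eq_fintype_card]; decide

variable {G : Type*} [Group G] [Finite G] {j : D × D →* G} {s r : G} {P : Sylow 2 G}

/-- the image of `U × V` -/
abbrev E (j : D × D →* G) (U V : Subgroup D) : Subgroup G := (U.prod V).map j

omit [Finite G] in
theorem card_E (h : Cx j s r P) (U V : Subgroup D) : Nat.card (E j U V) = Nat.card U * Nat.card V := by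
  rw [← Nat.card_congr ((U.prod V).equivMapOfInjective j h.inj).toEquiv, Nat.card_congr (U.prodEquiv V).toEquiv,
    Nat.card_prod]

omit [Finite G] in
theorem mem_E (h : Cx j s r P) {U V : Subgroup D} {x y : D} : j (x, y) ∈ E j U V ↔ x ∈ U ∧ y ∈ V :=
  (mem_map_iff_mem h.inj).trans mem_prod

omit [Finite G] in
theorem memP (h : Cx j s r P) {p : G} (hp : p ∈ (P : Subgroup G)) :
    (∃ x y, p = j (x, y)) ∨ ∃ x y, p = j (x, y) * s := by
  rcases (h.syl p).1 hp with ⟨⟨x, y⟩, e⟩ | ⟨⟨x, y⟩, e⟩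
  · exact .inl ⟨x, y, e.symm⟩
  · exact .inr ⟨x, y, by rw [e, mul_assoc, h.ss, mul_one]⟩

omit [Finite G] in
theorem sP (h : Cx j s r P) : s ∈ (P : Subgroup G) := (h.syl s).2 (.inr (by rw [h.ss]; exact one_mem _))

omit [Finite G] in
theorem jP (h : Cx j s r P) (t : D × D) : j t ∈ (P : Subgroup G) := (h.syl _).2 (.inl ⟨t, rfl⟩)

omit [Finite G] in
theorem sj (h : Cx j s r P) (x y : D) : s * j (x, y) = j (y, x) * s := by rw [← h.sw x y]; group

theorem T_le (U V : Subgroup D) [U.Normal] [V.Normal] : j.range ≤ normalizer (E j U V : Set G) := by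
  rintro _ ⟨t, rfl⟩
  refine mem_normalizer_of_forall ?_
  rintro _ ⟨u, hu, rfl⟩
  exact ⟨t * u * t⁻¹, (inferInstance : (U.prod V).Normal).conj_mem u hu t, by simp⟩

theorem P_le (h : Cx j s r P) (U : Subgroup D) [U.Normal] : (P : Subgroup G) ≤ normalizer (E j U U : Set G) := by
  have hs : s ∈ normalizer (E j U U : Set G) := mem_normalizer_of_forall (by
    rintro _ ⟨⟨x, y⟩, hu, rfl⟩
    rw [h.sw]
    exact (mem_E h).2 ⟨hu.2, hu.1⟩)
  intro p hp
  rcases memP h hp with ⟨x, y, rfl⟩ | ⟨x, y, rfl⟩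
  · exact T_le U U ⟨_, rfl⟩
  · exact mul_mem (T_le U U ⟨_, rfl⟩) hs

theorem key (h : Cx j s r P) {g : G} {U V : Subgroup D} (hU : Nat.card U = 4) (hV : Nat.card V = 4)
    (le : cj g (E j VB VB) ≤ E j U V) :
    cj g (E j VB VB) = E j U V ∧ cj g P ≤ normalizer (E j U V : Set G) := by
  have e : cj g (E j VB VB) = E j U V :=
    eq_of_le_of_card_ge le (by rw [card_cj, card_E h, card_E h, cB, hU, hV])
  refine ⟨e, ?_⟩
  rw [← e, ← cj_normalizer]
  exact cj_mono g (P_le h VB)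

theorem mixed (h : Cx j s r P) (c : ∀ X, Mt j s X → Cj j X) {g : G} {U V : Subgroup D} [U.Normal] [V.Normal]
    {u : D} (h1 : u ∈ U) (h2 : u ∉ V) (le : cj g P ≤ normalizer (E j U V : Set G)) : False := by
  obtain ⟨k, -, hk⟩ := c _ ⟨T_le U V, fun hs => h2 (by
    have := conj_mem_of_mem_normalizer hs ((mem_E h).2 ⟨h1, V.one_mem⟩)
    rw [h.sw] at this
    exact ((mem_E h).1 this).2)⟩ _ le (IsPGroup_cj P.isPGroup' g)
  have h3 := card_le_of_le (cj_le_iff.2 hk)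
  rw [card_cj, card_cj] at h3
  have h4 : j.range < (P : Subgroup G) :=
    lt_of_le_of_ne (by rintro _ ⟨t, rfl⟩; exact jP h t) fun e => h.sn (e ▸ sP h)
  exact absurd (card_lt_of_lt h4) (by omega)

theorem same (h : Cx j s r P) (hN : normalizer (j.range : Set G) ≤ (P : Subgroup G)) {n : G}
    (hn : cj n (P : Subgroup G) = P) (le : cj n (E j VB VB) ≤ E j VA VA) : False := by
  have nP : ∀ p ∈ (P : Subgroup G), n * p * n⁻¹ ∈ (P : Subgroup G) := cj_le_iff.1 hn.le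
  have nP' : ∀ p ∈ (P : Subgroup G), n⁻¹ * p * n ∈ (P : Subgroup G) := fun p hp => mem_cj.1 (hn.ge hp)
  have zB : z ∈ VB := .inr (.inl rfl)
  obtain ⟨⟨x0, y0⟩, m0, e0⟩ := cj_le_iff.1 le _ ((mem_E h).2 ⟨zB, zB⟩)
  obtain ⟨⟨x, y⟩, m1, e1⟩ := cj_le_iff.1 le _ ((mem_E h).2 ⟨zB, VB.one_mem⟩)
  have zc : ∀ x : D, x * z = z * x := by decide
  have Zc : ∀ p ∈ (P : Subgroup G), p * j (z, z) = j (z, z) * p := fun p hp => by
    rcases memP h hp with ⟨x, y, rfl⟩ | ⟨x, y, rfl⟩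
    · rw [← map_mul, ← map_mul, Prod.mk_mul_mk, Prod.mk_mul_mk, zc x, zc y]
    · rw [mul_assoc, sj h, ← mul_assoc, ← mul_assoc, ← map_mul, ← map_mul, Prod.mk_mul_mk, Prod.mk_mul_mk, zc x, zc y]
  have z1 : ∀ p ∈ (P : Subgroup G), p * j (z, 1) = j (z, 1) * p ∨ p * j (z, 1) = j (z, 1) * j (z, z) * p := fun p hp => by
    rcases memP h hp with ⟨x, y, rfl⟩ | ⟨x, y, rfl⟩
    · left
      rw [← map_mul, ← map_mul, Prod.mk_mul_mk, Prod.mk_mul_mk, zc x, mul_one, one_mul]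
    · right
      rw [mul_assoc, sj h, ← mul_assoc, ← mul_assoc, ← map_mul, ← map_mul, ← map_mul, Prod.mk_mul_mk, Prod.mk_mul_mk,
        Prod.mk_mul_mk, show z * z = 1 by decide, one_mul, one_mul, mul_one, zc y]
  have c0 : ∀ p ∈ (P : Subgroup G), p * j (x0, y0) = j (x0, y0) * p := fun p hp => by
    have := Zc _ (nP' p hp)
    rw [e0]
    calc p * (n * j (z, z) * n⁻¹) = n * (n⁻¹ * p * n * j (z, z)) * n⁻¹ := by group
      _ = _ := by rw [this]; group
  have c1 : ∀ p ∈ (P : Subgroup G), p * j (x, y) = j (x, y) * p ∨ p * j (x, y) = j (x, y) * j (x0, y0) * p := fun p hp => by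
    rw [e0, e1]
    refine (z1 _ (nP' p hp)).imp (fun this => ?_) fun this => ?_
    · calc p * (n * j (z, 1) * n⁻¹) = n * (n⁻¹ * p * n * j (z, 1)) * n⁻¹ := by group
        _ = _ := by rw [this]; group
    · calc p * (n * j (z, 1) * n⁻¹) = n * (n⁻¹ * p * n * j (z, 1)) * n⁻¹ := by group
        _ = _ := by rw [this]; group
  have n0 : (x0, y0) ≠ 1 := fun e => by
    rw [e, map_one, eq_comm, conj_eq_one_iff, map_eq_one_iff _ h.inj] at e0
    exact absurd e0 (by decide)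
  have n1 : (x, y) ≠ 1 := fun e => by
    rw [e, map_one, eq_comm, conj_eq_one_iff, map_eq_one_iff _ h.inj] at e1
    exact absurd e1 (by decide)
  have n2 : (x, y) ≠ (x0, y0) := fun e => by
    rw [e, e0, mul_left_inj, mul_right_inj] at e1
    exact absurd (h.inj e1) (by decide)
  have a1 := c0 _ (jP h (b, 1))
  have a2 := c0 _ (sP h)
  rw [← map_mul, ← map_mul] at a1
  rw [sj h, mul_left_inj] at a2
  have hz0 : x0 = z ∧ y0 = z :=
    (by decide : ∀ x y : D, InA x → (x, y) ≠ 1 → (b, (1 : D)) * (x, y) = (x, y) * (b, 1) → (y, x) = (x, y) →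
      x = z ∧ y = z) x0 y0 m0.1 n0 (h.inj a1) (h.inj a2)
  obtain ⟨rfl, rfl⟩ := hz0
  have b1 := c1 _ (jP h (b, 1))
  have b2 := c1 _ (jP h (1, b))
  simp only [← map_mul, h.inj.eq_iff] at b1 b2
  have hw : (x = z ∧ y = 1) ∨ (x = 1 ∧ y = z) :=
    (by decide : ∀ x y : D, InA x → InA y → (x, y) ≠ 1 → (x, y) ≠ (z, z) →
      ((b, (1 : D)) * (x, y) = (x, y) * (b, 1) ∨ (b, (1 : D)) * (x, y) = (x, y) * (z, z) * (b, 1)) →
      (((1 : D), b) * (x, y) = (x, y) * (1, b) ∨ ((1 : D), b) * (x, y) = (x, y) * (z, z) * (1, b)) →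
      (x = z ∧ y = 1) ∨ (x = 1 ∧ y = z)) x y m1.1 m1.2 n1 n2 b1 b2
  have hT : n ∈ normalizer (j.range : Set G) := mem_normalizer_of_forall (by
    rintro _ ⟨⟨t1, t2⟩, rfl⟩
    have cm : n * j (t1, t2) * n⁻¹ * j (x, y) = j (x, y) * (n * j (t1, t2) * n⁻¹) := by
      have : j (t1, t2) * j (z, 1) = j (z, 1) * j (t1, t2) := by
        rw [← map_mul, ← map_mul, Prod.mk_mul_mk, Prod.mk_mul_mk, zc t1, mul_one, one_mul]
      rw [e1]
      calc n * j (t1, t2) * n⁻¹ * (n * j (z, 1) * n⁻¹) = n * (j (t1, t2) * j (z, 1)) * n⁻¹ := by group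
        _ = _ := by rw [this]; group
    rcases memP h (nP _ (jP h (t1, t2))) with ⟨u, v, e⟩ | ⟨u, v, e⟩
    · exact ⟨_, e.symm⟩
    · rw [e, mul_assoc, sj h, ← mul_assoc, ← mul_assoc, mul_left_inj, ← map_mul, ← map_mul] at cm
      exact absurd (h.inj cm) ((by decide : ∀ u v x y : D, (x = z ∧ y = 1) ∨ (x = 1 ∧ y = z) →
        (u, v) * (y, x) ≠ (x, y) * (u, v)) u v x y hw))
  have bb : j (b, 1) ∈ E j VB VB := (mem_E h).2 ⟨.inr (.inr (.inl rfl)), VB.one_mem⟩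
  have := conj_mem_of_mem_normalizer' (P_le h VA (hN hT)) (cj_le_iff.1 le _ bb)
  rw [show n⁻¹ * (n * j (b, 1) * n⁻¹) * n = j (b, 1) by group] at this
  exact absurd ((mem_E h).1 this).1 (show ¬ InA b by decide)

end NB

open NB in
theorem nb {G : Type*} [Group G] [Finite G] {j : D × D →* G} {s r : G} {P : Sylow 2 G} (h : Cx j s r P)
    (hN : normalizer (j.range : Set G) ≤ (P : Subgroup G)) (c : ∀ X, Mt j s X → Cj j X) :
    ∀ g : G, (∀ x y, InB x → InB y → g * j (x, y) * g⁻¹ ∈ j.range) →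
      ∀ x y, InB x → InB y → ∃ x' y', InB x' ∧ InB y' ∧ g * j (x, y) * g⁻¹ = j (x', y') := by
  intro g hg
  have : Fact (Nat.Prime 2) := ⟨Nat.prime_two⟩
  have sq : ∀ t : D × D, j t ∈ cj g (E j VB VB) → t * t = 1 := by
    rintro t ⟨_, ⟨⟨x, y⟩, m, rfl⟩, e⟩
    refine h.inj ?_
    rw [map_mul, ← e, ← map_mul, ← map_mul, (by decide : ∀ x y : D, InB x → InB y → (x, y) * (x, y) = 1) x y m.1 m.2,
      map_one, map_one]
  have cm : ∀ t t' : D × D, j t ∈ cj g (E j VB VB) → j t' ∈ cj g (E j VB VB) → t * t' = t' * t := by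
    rintro t t' ⟨_, ⟨⟨x, y⟩, m, rfl⟩, e⟩ ⟨_, ⟨⟨x', y'⟩, m', rfl⟩, e'⟩
    have bc : ∀ x y : D, InB x → InB y → x * y = y * x := by decide
    refine h.inj ?_
    rw [map_mul, map_mul, ← e, ← e', ← map_mul, ← map_mul, ← map_mul, ← map_mul, Prod.mk_mul_mk, Prod.mk_mul_mk,
      bc x x' m.1 m'.1, bc y y' m.2 m'.2]
  have ab : ∀ x y : D, x * x = 1 → y * y = 1 → x * y = y * x → InA x ∨ InB y := by decide
  have f1 : (∀ t : D × D, j t ∈ cj g (E j VB VB) → t.1 ∈ VA) ∨ ∀ t : D × D, j t ∈ cj g (E j VB VB) → t.1 ∈ VB := by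
    by_contra H
    simp only [not_or, not_forall] at H
    obtain ⟨⟨t, m, n⟩, t', m', n'⟩ := H
    exact (ab t.1 t'.1 (congrArg Prod.fst (sq t m)) (congrArg Prod.fst (sq t' m')) (congrArg Prod.fst (cm t t' m m'))).elim n n'
  have f2 : (∀ t : D × D, j t ∈ cj g (E j VB VB) → t.2 ∈ VA) ∨ ∀ t : D × D, j t ∈ cj g (E j VB VB) → t.2 ∈ VB := by
    by_contra H
    simp only [not_or, not_forall] at H
    obtain ⟨⟨t, m, n⟩, t', m', n'⟩ := H
    exact (ab t.2 t'.2 (congrArg Prod.snd (sq t m)) (congrArg Prod.snd (sq t' m')) (congrArg Prod.snd (cm t t' m m'))).elim n n'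
  have le : ∀ U V : Subgroup D, (∀ t : D × D, j t ∈ cj g (E j VB VB) → t.1 ∈ U) →
      (∀ t : D × D, j t ∈ cj g (E j VB VB) → t.2 ∈ V) → cj g (E j VB VB) ≤ E j U V := by
    intro U V h1 h2 w hw
    obtain ⟨_, ⟨⟨x, y⟩, m, rfl⟩, rfl⟩ := id hw
    obtain ⟨t, e⟩ := hg x y m.1 m.2
    have hw' : j t ∈ cj g (E j VB VB) := e ▸ hw
    exact ⟨t, ⟨h1 t hw', h2 t hw'⟩, e⟩
  have aA : a ∈ VA := .inr (.inr (.inl rfl))
  have bB : b ∈ VB := .inr (.inr (.inl rfl))
  rcases f1 with f1 | f1 <;> rcases f2 with f2 | f2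
  · obtain ⟨e, l⟩ := key h cA cA (le _ _ f1 f2)
    have s1 : IsSylIn 2 (cj g (P : Subgroup G)) (normalizer (E j VA VA : Set G)) :=
      ((isSylIn_top P).cj g).of_le l (by rw [cj_top]; exact le_top)
    obtain ⟨m, hm, em⟩ := s1.exists_cj_eq (isSylIn_of_sylow_le P (P_le h VA))
    refine (same h hN (n := m * g) (by rw [cj_mul, em]) ?_).elim
    rw [cj_mul, e, cj_eq_iff.2 hm]
  · exact (mixed h c aA (show ¬ InB a by decide) (key h cA cB (le _ _ f1 f2)).2).elim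
  · exact (mixed h c bB (show ¬ InA b by decide) (key h cB cA (le _ _ f1 f2)).2).elim
  · intro x y hx hy
    obtain ⟨⟨x', y'⟩, m, e⟩ := cj_le_iff.1 (le _ _ f1 f2) _ ((mem_E h).2 ⟨hx, hy⟩)
    exact ⟨x', y', m.1, m.2, e.symm⟩

end Cfsg.Agent.QW
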