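import Cfsg.Agent.QW.A

/-! The normaliser of `T₀ = D₈ × D₈` lies in the Sylow 2-subgroup. -/

set_option autoImplicit false

namespace Cfsg.Agent.QW

open Subgroup

namespace NN

/-- central elements -/
abbrev Cn (t : D × D) : Prop := (t.1 = 1 ∨ t.1 = z) ∧ (t.2 = 1 ∨ t.2 = z)

theorem cn_iff : ∀ t : D × D, Cn t ↔ ∀ y, t * y = y * t := by decide +kernel

theorem cn (φ : D × D ≃* D × D) {t : D × D} (h : Cn t) : Cn (φ t) := (cn_iff _).2 fun y => by
  obtain ⟨y, rfl⟩ := φ.surjective y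
  rw [← map_mul, ← map_mul, (cn_iff _).1 h]

/-- `φ` fixes the product of the two central involutions -/
theorem fZ (φ : D × D ≃* D × D) : φ (z, z) = (z, z) := by
  have k : ∀ t : D × D, Cn t → t ≠ 1 → (∀ u : D × D, u * u = t → ∀ y : D × D, y * y = 1 → u * y = y * u → Cn y) →
      t = (z, z) := by decide +kernel
  refine k _ (cn φ (by decide)) (φ.map_ne_one_iff.2 (by decide)) fun u hu y hy e => ?_
  obtain ⟨u, rfl⟩ := φ.surjective u
  obtain ⟨y, rfl⟩ := φ.surjective y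
  rw [← map_mul, φ.injective.eq_iff] at hu
  rw [← map_mul, φ.map_eq_one_iff] at hy
  rw [← map_mul, ← map_mul, φ.injective.eq_iff] at e
  exact cn φ ((by decide +kernel : ∀ u : D × D, u * u = (z, z) → ∀ y : D × D, y * y = 1 → u * y = y * u → Cn y) u hu y hy e)

theorem f2 (φ : D × D ≃* D × D) : φ (φ (z, 1)) = (z, 1) ∧ φ (φ (1, z)) = (1, z) := by
  have k : ∀ t : D × D, Cn t → t ≠ 1 → t ≠ (z, z) → t = (z, 1) ∨ t = (1, z) := by decide +kernel
  have n : ∀ t : D × D, t ≠ (z, z) → φ t ≠ (z, z) := fun t h e => h (φ.injective (e.trans (fZ φ).symm))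
  have ne : φ (z, 1) ≠ φ (1, z) := φ.injective.ne (by decide)
  rcases k _ (cn φ (t := (z, 1)) (by decide)) (φ.map_ne_one_iff.2 (by decide)) (n _ (by decide)) with h1 | h1 <;>
  rcases k _ (cn φ (t := (1, z)) (by decide)) (φ.map_ne_one_iff.2 (by decide)) (n _ (by decide)) with h2 | h2
  · exact absurd (h1.trans h2.symm) ne
  · rw [h1, h2, h1, h2]; exact ⟨rfl, rfl⟩
  · rw [h1, h2, h1]; exact ⟨rfl, rfl⟩
  · exact absurd (h1.trans h2.symm) ne

theorem two (ψ : D × D ≃* D × D) (w p q : D × D) (hw : ψ w = w) (p2 : p * p = 1) (q2 : q * q = 1)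
    (pq : p * q ≠ q * p) (pw : ∀ y, p * y = y * p ∨ p * y = w * (y * p)) (qw : ∀ y, q * y = y * q ∨ q * y = w * (y * q))
    (k : ∀ t : D × D, t * t = 1 → (∀ y, t * y = y * t ∨ t * y = w * (y * t)) → Cn t ∨ Cn (t * p) ∨ Cn (t * q)) :
    Cn (ψ (ψ p) * p) := by
  have m : ∀ t : D × D, t * t = 1 → (∀ y, t * y = y * t ∨ t * y = w * (y * t)) → ¬ Cn t → Cn (ψ t * p) ∨ Cn (ψ t * q) :=
    fun t t2 tw tc => (k _ (by rw [← map_mul, t2, map_one]) fun y => by
      obtain ⟨y, rfl⟩ := ψ.surjective y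
      rw [← hw]
      simp only [← map_mul, ψ.injective.eq_iff]
      exact tw y).resolve_left fun e => tc (by simpa using cn ψ.symm e)
  have mu : ∀ t u : D × D, Cn t → Cn u → Cn (t * u) := by decide +kernel
  have cm : ∀ {t u c : D × D}, c * c = 1 → Cn (t * c) → Cn (u * c) → t * u = u * t := fun {t u c} c2 h1 h2 => by
    have e1 : t = t * c * c := by rw [mul_assoc, c2, mul_one]
    have e2 : u = u * c * c := by rw [mul_assoc, c2, mul_one]
    have a1 := (cn_iff _).1 h1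
    have a2 := (cn_iff _).1 h2
    generalize t * c = t' at *
    generalize u * c = u' at *
    rw [e1, e2, mul_assoc, ← mul_assoc c, ← a2 c, mul_assoc u', c2, mul_one, mul_assoc, ← mul_assoc c, ← a1 c,
      mul_assoc t', c2, mul_one, a1]
  have h1 := m p p2 pw fun e => pq ((cn_iff _).1 e q)
  have h2 := m q q2 qw fun e => pq ((cn_iff _).1 e p).symm
  have nc : ψ p * ψ q ≠ ψ q * ψ p := by rwa [← map_mul, ← map_mul, Ne, ψ.injective.eq_iff]
  rcases h1 with h1 | h1
  · have := mu _ _ (cn ψ h1) h1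
    rwa [map_mul, mul_assoc, ← mul_assoc (ψ p), ← map_mul, p2, map_one, one_mul] at this
  · have h3 := h2.resolve_right fun e => nc (cm q2 h1 e)
    have := mu _ _ (cn ψ h1) h3
    rwa [map_mul, mul_assoc, ← mul_assoc (ψ q), ← map_mul, q2, map_one, one_mul] at this

theorem four (φ : D × D ≃* D × D) (x y : D) (hx : InA x) (hy : InA y) :
    InA (φ (φ (φ (φ (x, y))))).1 ∧ InA (φ (φ (φ (φ (x, y))))).2 := by
  have h1 := two (φ.trans φ) (z, 1) (a, 1) (b, 1) (f2 φ).1 (by decide) (by decide) (by decide) (by decide +kernel)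
    (by decide +kernel) (by decide +kernel)
  have h2 := two (φ.trans φ) (1, z) (1, a) (1, b) (f2 φ).2 (by decide) (by decide) (by decide) (by decide +kernel)
    (by decide +kernel) (by decide +kernel)
  let χ := (φ.trans φ).trans (φ.trans φ)
  change InA (χ (x, y)).1 ∧ InA (χ (x, y)).2
  change Cn (χ _ * _) at h1 h2
  have mu : ∀ t u : D × D, InA t.1 ∧ InA t.2 → InA u.1 ∧ InA u.2 → InA (t * u).1 ∧ InA (t * u).2 := by
    have : ∀ x y : D, InA x → InA y → InA (x * y) := by decide +kernel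
    exact fun t u h1 h2 => ⟨this _ _ h1.1 h2.1, this _ _ h1.2 h2.2⟩
  have c0 : ∀ t : D × D, Cn t → InA t.1 ∧ InA t.2 := by decide +kernel
  have c1 : ∀ t : D × D, Cn (t * (a, 1)) → InA t.1 ∧ InA t.2 := by decide +kernel
  have c2 : ∀ t : D × D, Cn (t * (1, a)) → InA t.1 ∧ InA t.2 := by decide +kernel
  have g1 := c1 _ h1
  have g2 := c2 _ h2
  rcases (by decide +kernel : ∀ x y : D, InA x → InA y → Cn (x, y) ∨ (∃ c, Cn c ∧ (x, y) = c * (a, 1)) ∨
    (∃ c, Cn c ∧ (x, y) = c * (1, a)) ∨ ∃ c, Cn c ∧ (x, y) = c * (a, 1) * (1, a)) x y hx hy with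
    e | ⟨c, hc, e⟩ | ⟨c, hc, e⟩ | ⟨c, hc, e⟩
  · exact c0 _ (cn χ e)
  · rw [e, map_mul]; exact mu _ _ (c0 _ (cn χ hc)) g1
  · rw [e, map_mul]; exact mu _ _ (c0 _ (cn χ hc)) g2
  · rw [e, map_mul, map_mul]; exact mu _ _ (mu _ _ (c0 _ (cn χ hc)) g1) g2

end NN

variable {G : Type*} [Group G] [Finite G] {j : D × D →* G} {s r : G} {P : Sylow 2 G}

theorem nN (h : Cx j s r P) : normalizer (j.range : Set G) ≤ (P : Subgroup G) := by
  have k4 : ∀ g ∈ normalizer (j.range : Set G), g ^ 4 ∈ (P : Subgroup G) := fun g hg => by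
    let ι := MonoidHom.ofInjective h.inj
    let φ : D × D ≃* D × D := (ι.trans (normalizerMonoidHom j.range ⟨g, hg⟩)).trans ι.symm
    have e : ∀ t, g * j t * g⁻¹ = j (φ t) := fun t =>
      (MonoidHom.apply_ofInjective_symm h.inj (normalizerMonoidHom j.range ⟨g, hg⟩ (ι t))).symm
    refine h.nA _ (fun x y hx hy => ⟨_, _, (NN.four φ x y hx hy).1, (NN.four φ x y hx hy).2, ?_⟩) (pow_mem hg 4)
    rw [Prod.mk.eta, ← e, ← e, ← e, ← e]
    simp only [pow_succ, pow_zero, one_mul, mul_inv_rev, mul_assoc]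
  have pN : (P : Subgroup G) ≤ normalizer (j.range : Set G) := fun g hg => by
    have hs : s ∈ normalizer (j.range : Set G) := mem_normalizer_fintype fun n ⟨t, ht⟩ => ⟨(t.2, t.1), by
      rw [← h.sw, ht]⟩
    rcases (h.syl g).1 hg with e | e
    · exact le_normalizer e
    · exact (mul_mem_cancel_right hs).1 (le_normalizer e)
  have p2 : IsPGroup 2 (normalizer (j.range : Set G)) := fun g => by
    obtain ⟨k, hk⟩ := P.isPGroup' ⟨_, k4 g g.2⟩
    refine ⟨2 + k, Subtype.ext ?_⟩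
    have := congrArg Subtype.val hk
    simp only [SubgroupClass.coe_pow, OneMemClass.coe_one] at this ⊢
    rw [pow_add, pow_mul]
    exact this
  exact (P.is_maximal' p2 pN).le

end Cfsg.Agent.QW
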